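import Cfsg.Agent.H879.Nine.Ctx
import Cfsg.Agent.H912.Reidx
import Cfsg.Agent.H924.SympForm
import Cfsg.Prelude.Def_Spor_Suz
import Cfsg.Prelude.Def_G2

/-!
# The setting of S5869: residual cores in `Sp₁₂(q)` (helper922)

* `Cx p H P` : `H` maximal in `spGL 6 F`, `P` a residual core of `H`, `char F = p`, `P` fixes no quadratic form;
* `Cx.core`, `Cx.fixA`, `Cx.sd`, `Cx.scalar_pm` : the first consequences;
* `e12`, `Cx.coreR` … : the same in `GL (Fin 12) F`;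
* `Concl P p` : the conclusion of S5869.
-/

set_option autoImplicit false
set_option linter.unusedSectionVars false

namespace Cfsg.Agent.H922.S12

open Cfsg Cfsg.Geo Matrix Cfsg.Agent.H915.LD

universe u

variable {F : Type u} [Field F]

/-- The setting of S5869. -/
structure Cx (p : ℕ) (H P : Subgroup (GL (Fin 6 ⊕ Fin 6) F)) : Prop where
  prime : p.Prime
  char : CharP F p
  hH : IsMaximalIn (spGL 6 F) H
  hc : IsResidualCore H P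
  hQ : ¬ FixQ P

/-- the conclusion of S5869 for the core `P` -/
def Concl [Fintype F] (P : Subgroup (GL (Fin 6 ⊕ Fin 6) F)) (p : ℕ) : Prop :=
    ((Nonempty ((P ⧸ (Cfsg.Geo.scalars (Fin 6 ⊕ Fin 6) F).subgroupOf P) ≃* Matrix.ProjectiveSpecialLinearGroup (Fin 2) (ZMod 11)) ∧ ((Fintype.card F = p ∧ p ≠ 11 ∧ (p % 20 = 9 ∨ p % 20 = 11 ∨ p % 20 = 1 ∨ p % 20 = 19)) ∨ (Fintype.card F = p ^ 2 ∧ p ≠ 2 ∧ (p % 5 = 2 ∨ p % 5 = 3)))) ∨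
     (Nonempty ((P ⧸ (Cfsg.Geo.scalars (Fin 6 ⊕ Fin 6) F).subgroupOf P) ≃* Matrix.ProjectiveSpecialLinearGroup (Fin 2) (ZMod 13)) ∧ ((Fintype.card F = p ∧ p ≠ 13 ∧ (p % 28 = 13 ∨ p % 28 = 15 ∨ p % 28 = 1 ∨ p % 28 = 27)) ∨ (Fintype.card F = p ^ 3 ∧ p ≠ 2 ∧ (p % 7 = 2 ∨ p % 7 = 5 ∨ p % 7 = 3 ∨ p % 7 = 4)))) ∨
     ((∃ (K : Type) (_ : Field K) (_ : Fintype K), Fintype.card K = 25 ∧ Nonempty ((P ⧸ (Cfsg.Geo.scalars (Fin 6 ⊕ Fin 6) F).subgroupOf P) ≃* Matrix.ProjectiveSpecialLinearGroup (Fin 2) K)) ∧ Fintype.card F = p ∧ p ≠ 3 ∧ (p % 5 = 2 ∨ p % 5 = 3)) ∨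
     ((∃ (K : Type) (_ : Field K) (_ : Fintype K), Fintype.card K = 5 ∧ Nonempty ((P ⧸ (Cfsg.Geo.scalars (Fin 6 ⊕ Fin 6) F).subgroupOf P) ≃* Cfsg.PSp 2 K)) ∧ ((Fintype.card F = p ∧ (p % 5 = 1 ∨ p % 5 = 4)) ∨ (Fintype.card F = p ^ 2 ∧ (p % 5 = 2 ∨ p % 5 = 3)))) ∨
     ((∃ (K : Type) (_ : Field K) (_ : Fintype K), Fintype.card K = 4 ∧ Nonempty ((P ⧸ (Cfsg.Geo.scalars (Fin 6 ⊕ Fin 6) F).subgroupOf P) ≃* Cfsg.Lie.G2 K)) ∧ Fintype.card F = p ∧ Odd p ∧ p ≠ 3) ∨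
     (Nonempty ((P ⧸ (Cfsg.Geo.scalars (Fin 6 ⊕ Fin 6) F).subgroupOf P) ≃* alternatingGroup (Fin 14)) ∧ Fintype.card F = 2) ∨
     (Cfsg.Spor.IsoSuz (P ⧸ (Cfsg.Geo.scalars (Fin 6 ⊕ Fin 6) F).subgroupOf P) ∧ Fintype.card F = 3) ∨
     (Nonempty ((P ⧸ (Cfsg.Geo.scalars (Fin 6 ⊕ Fin 6) F).subgroupOf P) ≃* Matrix.ProjectiveSpecialLinearGroup (Fin 2) F) ∧ 13 ≤ p) ∨
     (Nonempty ((P ⧸ (Cfsg.Geo.scalars (Fin 6 ⊕ Fin 6) F).subgroupOf P) ≃* Cfsg.PSp 2 F) ∧ p = 5))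

/-- the coordinates -/
def e12 : Fin 6 ⊕ Fin 6 ≃ Fin 12 := finSumFinEquiv

namespace Cx

variable {p : ℕ} {H P : Subgroup (GL (Fin 6 ⊕ Fin 6) F)}

theorem core (h : Cx p H P) : Core P := core_of_residual h.hc

theorem le_sp (h : Cx p H P) : P ≤ spGL 6 F := h.hc.le.trans h.hH.1.le

theorem fixes (h : Cx p H P) : FixesForm (matrixSet P) (sympForm 6 F) := by
  rintro _ ⟨g, hg, rfl⟩ u v
  exact h.le_sp hg u v

theorem fixA (h : Cx p H P) : FixA P := ⟨_, H924.isSymplecticForm_sympForm, h.fixes⟩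

theorem sd (h : Cx p H P) : SD P :=
  H879.Nine.sd_of_form (H924.isSymplecticForm_sympForm (m := 6) (F := F)).bilinear
    (H924.isSymplecticForm_sympForm (m := 6) (F := F)).nondegenerate h.fixes

/-- the core in `GL (Fin 12) F` -/
theorem coreR (h : Cx p H P) : Core (H912.Rx.re e12 P) := H912.Rx.core_re e12 h.core

theorem sdR (h : Cx p H P) : SD (H912.Rx.re e12 P) := (H912.Rx.sd_re e12).2 h.sd

theorem fixAR (h : Cx p H P) : FixA (H912.Rx.re e12 P) := H912.Rx.fixA_re_of e12 h.fixA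

theorem not_fixQR (h : Cx p H P) : ¬ FixQ (H912.Rx.re e12 P) := fun hq => by
  have h1 := H912.Rx.fixQ_re_of e12.symm hq
  rw [H912.Rx.re_symm] at h1
  exact h.hQ h1

/-- the scalars in `P` are `±1` -/
theorem scalar_sq (h : Cx p H P) {g : GL (Fin 6 ⊕ Fin 6) F} (hg : g ∈ P) {c : F}
    (hc : (g : Matrix (Fin 6 ⊕ Fin 6) (Fin 6 ⊕ Fin 6) F) = c • (1 : Matrix (Fin 6 ⊕ Fin 6) (Fin 6 ⊕ Fin 6) F)) :
    c ^ 2 = 1 := by
  have hs : IsSymplecticForm (sympForm 6 F) := H924.isSymplecticForm_sympForm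
  obtain ⟨⟨x, hx⟩, -⟩ := hs.nondegenerate (Pi.single (Sum.inl 0) 1) (fun h0 => by
    have := congrFun h0 (Sum.inl 0)
    rw [Pi.single_eq_same] at this
    exact one_ne_zero this)
  have h2 : sympForm 6 F ((g : Matrix (Fin 6 ⊕ Fin 6) (Fin 6 ⊕ Fin 6) F) *ᵥ x)
      ((g : Matrix (Fin 6 ⊕ Fin 6) (Fin 6 ⊕ Fin 6) F) *ᵥ Pi.single (Sum.inl 0) 1) =
        sympForm 6 F x (Pi.single (Sum.inl 0) 1) := h.fixes _ ⟨g, hg, rfl⟩ x (Pi.single (Sum.inl 0) 1)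
  rw [hc, Matrix.smul_mulVec, Matrix.one_mulVec, Matrix.smul_mulVec, Matrix.one_mulVec, hs.bilinear.smul_left,
    hs.bilinear.smul_right] at h2
  have h4 : (c ^ 2 - 1) * sympForm 6 F x (Pi.single (Sum.inl 0) 1) = 0 := by linear_combination h2
  exact sub_eq_zero.1 ((mul_eq_zero.1 h4).resolve_right hx)

/-- a scalar matrix in `P` is `1` or `-1` -/
theorem scalar_pm (h : Cx p H P) {g : GL (Fin 6 ⊕ Fin 6) F} (hg : g ∈ P) (hs : g ∈ scalars (Fin 6 ⊕ Fin 6) F) :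
    (g : Matrix (Fin 6 ⊕ Fin 6) (Fin 6 ⊕ Fin 6) F) = 1 ∨ (g : Matrix (Fin 6 ⊕ Fin 6) (Fin 6 ⊕ Fin 6) F) = -1 := by
  obtain ⟨c, hc'⟩ := (mem_scalars_iff g).1 hs
  have h1 : (c : F) = 1 ∨ (c : F) = -1 := by
    have := h.scalar_sq hg hc'
    exact mul_self_eq_one_iff.1 (by rw [← sq]; exact this)
  rcases h1 with h1 | h1
  · left; rw [hc', h1, one_smul]
  · right; rw [hc', h1, neg_one_smul]

end Cx

/-- the setting from the hypotheses of S5869 -/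
theorem exists_cx {H : Subgroup (GL (Fin 6 ⊕ Fin 6) F)} [Fintype F] (hH : IsMaximalIn (spGL 6 F) H)
    (hS : InSymplecticResidualClass H) : ∃ (P : Subgroup (GL (Fin 6 ⊕ Fin 6) F)) (p : ℕ), Cx p H P := by
  obtain ⟨P, hc, hQ, -⟩ := hS
  obtain ⟨p, hp⟩ := CharP.exists F
  exact ⟨P, p, CharP.char_is_prime F p, hp, hH, hc, hQ⟩

end Cfsg.Agent.H922.S12
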