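import Cfsg.Agent.H922.S12.Cross
import Cfsg.Agent.H922.Own12Rows

/-!
# S5869: the final theorem (helper922)
-/

set_option autoImplicit false
set_option linter.unusedSectionVars false

namespace Cfsg.Agent.H922.S12

open Cfsg Cfsg.Geo Matrix Cfsg.Agent.H915.LD

universe u

variable {F : Type u} [Field F] [Fintype F]

/-- **The conclusion for a core.** -/
theorem concl (O : PathC.{u}) {p : ℕ} {H P : Subgroup (GL (Fin 6 ⊕ Fin 6) F)} (h : Cx p H P)
    (hk : IsKnownSimple' (Soc P)) : Concl P p := by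
  by_cases hL : IsLieTypeChar p (Soc P)
  · exact Own.own_sp h hL
  · exact cross O h hk hL

theorem final (O : PathC.{u}) (hk : ∀ (T : Type u) [Group T] [Finite T] [IsSimpleGroup T], IsKnownSimple' T)
    {H : Subgroup (GL (Fin 6 ⊕ Fin 6) F)} (hH : IsMaximalIn (spGL 6 F) H) (hS : InSymplecticResidualClass H) :
    ∃ (P : Subgroup (GL (Fin 6 ⊕ Fin 6) F)) (p : ℕ), IsResidualCore H P ∧ p.Prime ∧ CharP F p ∧ Concl P p := by
  obtain ⟨P, p, h⟩ := exists_cx hH hS
  have := h.core.simple
  exact ⟨P, p, h.hc, h.prime, h.char, concl O h (hk (Soc P))⟩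

end Cfsg.Agent.H922.S12
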