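import Cfsg.Agent.H931.A7D.PathA
import Cfsg.Agent.H931.A7D.PathB
import Cfsg.Agent.H906.A7Twelve

/-!
# `2.A₇` in degree twelve, characteristic different from two (helper922)

* **`a7_two`** : a core of degree twelve with `Soc P ≅ A₇` whose scalars have order two does not exist (`p ≠ 2`);
* **`a7_double`** : the same for a core fixing a symplectic form.

`PathC` : the statement on representations in characteristic three.
-/

set_option autoImplicit false
set_option linter.unusedSectionVars false

namespace Cfsg.Agent.H922.S12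

open Cfsg Cfsg.Geo Matrix Module Cfsg.Agent.H637.A7Main Cfsg.Agent.H637.A7Grp Cfsg.Agent.H637.A7Cov
  Cfsg.Agent.H915.LD Cfsg.Agent.H931.A7D

universe u

/-- `2.A₇` in degree twelve, characteristic three -/
def PathC : Prop :=
  ∀ {K : Type u} [Field K] [IsAlgClosed K] {V : Type u} [AddCommGroup V] [Module K V] [FiniteDimensional K V]
    {D : Type u} [Group D] {π : D →* alternatingGroup (Fin 7)} {g : Fin 5 → D} {z : D}
    {β : D →* GL (Fin 4) (ZMod 7)} (_ : Cov π g z β) {σ : D →* Module.End K V},
    σ z = -1 → (2 : K) ≠ 0 → (3 : K) = 0 → Submodule.span K (Set.range σ) = ⊤ → finrank K V = 12 → False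

variable {F : Type u} [Field F] {ι : Type} [Fintype ι] [DecidableEq ι] {P : Subgroup (GL ι F)}

theorem a7_two (hX : PathC.{u}) (hC : Core P) (e : Soc P ≃* alternatingGroup (Fin 7))
    (hZ : ∀ g ∈ P, g ∈ scalars ι F → g * g = 1) (hne : (scalars ι F).subgroupOf P ≠ ⊥) (h2 : (2 : F) ≠ 0)
    (hn : Fintype.card ι = 12) : False := by
  classical
  set K := AlgebraicClosure F with hK
  have hι : Nonempty ι := hC.nonempty
  let π : P →* alternatingGroup (Fin 7) := e.toMonoidHom.comp (toSoc P)
  have hπ : Function.Surjective π := e.surjective.comp (toSoc_surjective P)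
  have hker : π.ker = (scalars ι F).subgroupOf P := ker_comp e
  have hk : ∀ k, π k = 1 → (∀ g, k * g = g * k) ∧ k * k = 1 := by
    intro k hk
    have h1 : k ∈ (scalars ι F).subgroupOf P := by rw [← hker]; exact hk
    exact ⟨fun g => (Subgroup.mem_center_iff.1 (scalars_le_center h1) g).symm, Subtype.ext (hZ k k.2 h1)⟩
  obtain ⟨D, g, z, H, hs, hgS, hzm⟩ := exists_good π hπ hk hC.commutator_top (S := Su hb3) (m := -1) (Su_cube hb3)
    (Su_sq hb3) (by rw [neg_mul_neg, one_mul]) (fun q => by rw [neg_one_mul, mul_neg_one])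
  let α : D →* P := (MonoidHom.fst _ _).comp D.subtype
  let β : D →* GL (Fin 4) (ZMod 7) := (MonoidHom.snd _ _).comp D.subtype
  have hα : Function.Surjective α := hs
  have HC : Cov (π.comp α) g z β := { toGood := H, bg := fun i => congrArg Units.val (hgS i), bz := hzm }
  -- the central element
  have hz1 : α z ∈ (scalars ι F).subgroupOf P := by
    rw [← hker]
    exact HC.pi_z
  obtain ⟨c, hc⟩ := (mem_scalars_iff _).1 (Subgroup.mem_subgroupOf.1 hz1)
  have hcc : (c : F) * c = 1 := by
    have h1 : ((α z * α z : P) : GL ι F) = 1 := by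
      rw [← map_mul, HC.zz, map_one, Subgroup.coe_one]
    have h3 := congrArg (fun u : GL ι F => (u : Matrix ι ι F) (Classical.arbitrary ι) (Classical.arbitrary ι)) h1
    simp only [Subgroup.coe_mul, Units.val_mul, hc, Units.val_one, Matrix.mul_smul,
      Matrix.smul_apply, Matrix.one_apply_eq, smul_eq_mul, mul_one] at h3
    exact h3
  have hcm : (c : F) = -1 := by
    rcases mul_self_eq_one_iff.1 hcc with h1 | h1
    · exfalso
      apply hne
      have hz0 : α z = 1 := by
        apply Subtype.ext
        apply Units.ext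
        rw [hc, h1, one_smul]
        rfl
      rw [Subgroup.eq_bot_iff_forall]
      intro a ha
      obtain ⟨d, rfl⟩ := hα a
      have h3 : (π.comp α) d = 1 := by
        have h4 : α d ∈ π.ker := by
          rw [hker]
          exact ha
        exact h4
      rcases HC.ker d h3 with h | h
      · rw [h, map_one]
      · rw [h, hz0]
    · exact h1
  -- the representation
  let σ : D →* Module.End K (ι → K) :=
    ((Matrix.toLinAlgEquiv' (R := K) (n := ι)).toAlgHom.toMonoidHom).comp ((mK K P).comp α)
  have hσ : ∀ d, σ d = Matrix.toLinAlgEquiv' (R := K) (n := ι) (mK K P (α d)) := fun d => rfl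
  have hσz : σ z = -1 := by
    have h1 : mK K P (α z) = -1 := by
      show ((α z : GL ι F) : Matrix ι ι F).map (algebraMap F K) = -1
      rw [hc, hcm]
      ext i j
      simp [Matrix.one_apply, apply_ite]
    rw [hσ, h1, map_neg, map_one]
  have hspan : Submodule.span K (Set.range σ) = ⊤ := by
    have h1 : Set.range σ = (Matrix.toLinAlgEquiv' (R := K) (n := ι)).toLinearMap '' (Set.range (mK K P)) := by
      ext x
      constructor
      · rintro ⟨d, rfl⟩
        exact ⟨_, ⟨α d, rfl⟩, rfl⟩
      · rintro ⟨_, ⟨a, rfl⟩, rfl⟩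
        obtain ⟨d, rfl⟩ := hα a
        exact ⟨d, rfl⟩
    rw [h1, ← Submodule.map_span, span_mK K hC.absIrred, Submodule.map_top, LinearMap.range_eq_top]
    exact (Matrix.toLinAlgEquiv' (R := K) (n := ι)).surjective
  have hfr : finrank K (ι → K) = 12 := by
    rw [Module.finrank_fintype_fun_eq_card, hn]
  have h2K : (2 : K) ≠ 0 := by
    intro h0
    apply h2
    apply (algebraMap F K).injective
    rw [map_ofNat, map_zero]
    exact h0
  by_cases h3 : (3 : K) = 0
  · exact hX HC hσz h2K h3 hspan hfr
  · by_cases h7 : (7 : K) = 0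
    · refine HC.path_b hσz h2K h3 ?_ hspan hfr
      intro h5
      apply h2K
      linear_combination h7 - h5
    · exact HC.path_a hσz h2K h3 h7 hspan hfr

/-- **`A₇` in `Sp₁₂`.** -/
theorem a7_double (hX : PathC.{u}) (hC : Core P) (e : Soc P ≃* alternatingGroup (Fin 7))
    (hn : Fintype.card ι = 12) (hZ : ∀ g ∈ P, g ∈ scalars ι F → g * g = 1) (hsd : SD P) (h2 : (2 : F) ≠ 0) : False := by
  by_cases hbot : (scalars ι F).subgroupOf P = ⊥
  · exact H906.A7T.a7_sd_simple hC hsd hn e hbot
  · exact a7_two hX hC e hZ hbot h2 hn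

end Cfsg.Agent.H922.S12
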