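import Cfsg.Agent.H922.S12.Base
import Cfsg.Agent.H614.AMod.Main
import Cfsg.Agent.H114.AltNat
import Cfsg.Agent.H919.AltTwo
import Cfsg.Agent.H875.PslRows
import Cfsg.Agent.H937.T2Rep

/-!
# S5869: alternating groups (helper922)

* `not_fixA_nat` : the natural module of `A_m`, `m ≥ 5`, `p` odd, fixes no alternating form;
* `fixQ_nat_two` : the natural module of `A₁₃` in characteristic two fixes a quadratic form;
* `row_alt` : `m ≥ 8`; `row_a5`, `row_a6`.
-/

set_option autoImplicit false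
set_option linter.unusedSectionVars false

namespace Cfsg.Agent.H922.S12

open Cfsg Cfsg.Geo Matrix Cfsg.Agent.H915.LD Cfsg.Agent.H964.AltMod

universe u

section nat

variable {ι : Type} [Fintype ι] [DecidableEq ι] {F : Type u} [Field F] {P : Subgroup (GL ι F)} {m : ℕ}
  {φ : P ≃* alternatingGroup (Fin m)} {w : Fin m → Fin m → ι → F}

theorem w_act (hw : NatM (rep φ) w) (g : alternatingGroup (Fin m)) (i j : Fin m) :
    ((φ.symm g : GL ι F) : Matrix ι ι F) *ᵥ w i j = w ((g : Equiv.Perm (Fin m)) i) ((g : Equiv.Perm (Fin m)) j) := by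
  rw [← rep_apply]
  exact hw.act g i j

theorem w_self (hw : NatM (rep φ) w) (i : Fin m) : w i i = 0 := by
  have := hw.tri i i i
  rwa [add_eq_left] at this

theorem w_sub (hw : NatM (rep φ) w) (a i j : Fin m) : w i j = w i a - w j a := by
  rw [← hw.tri i a j, hw.anti j a, sub_eq_add_neg]

/-- **`p` odd: no alternating form.** -/
theorem not_fixA_nat (h2 : (2 : F) ≠ 0) (hm : 5 ≤ m) (hw : NatM (rep φ) w) : ¬ FixA P := by
  rintro ⟨f, hf, hP⟩
  have hinv : ∀ (g : alternatingGroup (Fin m)) u v, f (((φ.symm g : GL ι F) : Matrix ι ι F) *ᵥ u)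
      (((φ.symm g : GL ι F) : Matrix ι ι F) *ᵥ v) = f u v :=
    fun g u v => hP _ ⟨(φ.symm g : GL ι F), (φ.symm g).2, rfl⟩ u v
  let a : Fin m := ⟨0, by omega⟩
  have h0 : ∀ i j, f (w i a) (w j a) = 0 := by
    intro i j
    by_cases hij : i = j
    · rw [hij]; exact hf.alternating _
    by_cases hia : i = a
    · rw [hia, w_self hw]
      have := hf.bilinear.smul_left 0 0 (w j a)
      rwa [zero_smul, zero_mul] at this
    by_cases hja : j = a
    · rw [hja, w_self hw]
      have := hf.bilinear.smul_right 0 (w i a) 0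
      rwa [zero_smul, zero_mul] at this
    obtain ⟨g, hg1, hg2, hg3⟩ := H114.AltNat.exists_three (i := i) (j := j) (k := j) (l := i) (o := a)
      (by rw [Fintype.card_fin]; exact hm) hij (Ne.symm hij) hia hja hja hia
    have h1 := hinv g (w i a) (w j a)
    rw [w_act hw, w_act hw, hg1, hg2, hg3, hf.skew] at h1
    have h3 : (2 : F) * f (w i a) (w j a) = 0 := by linear_combination -h1
    exact (mul_eq_zero.1 h3).resolve_left h2
  have hsub : ∀ x y z t : ι → F, f (x - y) (z - t) = f x z - f x t - f y z + f y t := by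
    intro x y z t
    have hl : ∀ x y z : ι → F, f (x - y) z = f x z - f y z := by
      intro x y z
      have h1 := hf.bilinear.add_left (x - y) y z
      rw [sub_add_cancel] at h1
      linear_combination -h1
    have hr : ∀ x y z : ι → F, f z (x - y) = f z x - f z y := by
      intro x y z
      have h1 := hf.bilinear.add_right z (x - y) y
      rw [sub_add_cancel] at h1
      linear_combination -h1
    rw [hl, hr, hr]
    ring
  have hall : ∀ p q : Fin m × Fin m, f (w p.1 p.2) (w q.1 q.2) = 0 := by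
    intro p q
    rw [w_sub hw a p.1 p.2, w_sub hw a q.1 q.2, hsub, h0, h0, h0, h0]
    ring
  have hzl : ∀ v, f 0 v = 0 := fun v => by
    have := hf.bilinear.smul_left 0 0 v
    rwa [zero_smul, zero_mul] at this
  have hzr : ∀ v, f v 0 = 0 := fun v => by
    have := hf.bilinear.smul_right 0 v 0
    rwa [zero_smul, zero_mul] at this
  have h1 : ∀ p v, f (w (Prod.fst p) (Prod.snd p)) v = 0 := by
    intro p v
    have hv : v ∈ Submodule.span F (Set.range fun p : Fin m × Fin m => w p.1 p.2) := by rw [hw.span]; trivial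
    induction hv using Submodule.span_induction with
    | mem y hy => obtain ⟨z, rfl⟩ := hy; exact hall p z
    | zero => exact hzr _
    | add a b _ _ ha hb => rw [hf.bilinear.add_right, ha, hb, add_zero]
    | smul c a _ ha => rw [hf.bilinear.smul_right, ha, mul_zero]
  obtain ⟨i, j, hne⟩ := hw.ne
  obtain ⟨-, ⟨u, hu⟩⟩ := hf.nondegenerate _ hne
  exact hu (h1 (i, j) u)

/-- **`A₁₃`, characteristic two: a quadratic form.** -/
theorem fixQ_nat_two (h2 : (2 : F) = 0) (hA : FixA P) (hm : m = 13) (hn : Fintype.card ι = 12)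
    (hw : NatM (rep φ) w) : FixQ P := by
  subst hm
  obtain ⟨f, hf, hP⟩ := hA
  have hinv : H919.Q2.InvB P f := H919.Q2.invB_of_fixes hP
  let v : Fin 13 → ι → F := fun i => ∑ j, w i j
  let a : Fin 13 := 0
  have hact : ∀ (g : alternatingGroup (Fin 13)) i,
      ((φ.symm g : GL ι F) : Matrix ι ι F) *ᵥ v i = v ((g : Equiv.Perm (Fin 13)) i) := by
    intro g i
    change _ *ᵥ (∑ j, w i j) = ∑ j, w ((g : Equiv.Perm (Fin 13)) i) j
    rw [Matrix.mulVec_sum,
      ← Equiv.sum_comp (g : Equiv.Perm (Fin 13)) (fun j => w ((g : Equiv.Perm (Fin 13)) i) j)]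
    exact Finset.sum_congr rfl fun j _ => w_act hw g i j
  have h13 : ∀ x : ι → F, (13 : ℕ) • x = x := by
    intro x
    rw [show 13 = 2 * 6 + 1 from rfl, add_smul, mul_comm, mul_smul, one_smul, two_nsmul, ← two_smul F x, h2, zero_smul,
      smul_zero, zero_add]
  have hv : ∀ i, v i = w i a - ∑ j, w j a := by
    intro i
    change ∑ j, w i j = _
    have h1 : ∑ j, w i j = ∑ j : Fin 13, (w i a - w j a) := Finset.sum_congr rfl fun j _ => w_sub hw a i j
    rw [h1, Finset.sum_sub_distrib, Finset.sum_const, Finset.card_univ, Fintype.card_fin, h13]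
  have hvv : ∀ i j, v i - v j = w i j := by
    intro i j
    rw [hv, hv, w_sub hw a i j]
    abel
  have hsum : ∑ i, v i = 0 := by
    have h1 : ∑ i, v i = ∑ i : Fin 13, (w i a - ∑ j, w j a) := Finset.sum_congr rfl fun i _ => hv i
    rw [h1, Finset.sum_sub_distrib, Finset.sum_const, Finset.card_univ, Fintype.card_fin, h13, sub_self]
  have hspan : Submodule.span F (Set.range v) = ⊤ := by
    rw [eq_top_iff, ← hw.span, Submodule.span_le]
    rintro _ ⟨⟨i, j⟩, rfl⟩
    change w i j ∈ _
    rw [← hvv]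
    exact Submodule.sub_mem _ (Submodule.subset_span ⟨i, rfl⟩) (Submodule.subset_span ⟨j, rfl⟩)
  have hc : ∀ i j, i ≠ j → f (v i) (v j) = f (v 0) (v 1) := by
    intro i j hij
    obtain ⟨g, hg1, hg2⟩ := H114.AltNat.exists_two (i := i) (j := j) (k := (0 : Fin 13)) (l := 1)
      (by rw [Fintype.card_fin]; norm_num) hij (by decide)
    have h1 := hinv (φ.symm g) (φ.symm g).2 (v i) (v j)
    rw [hact, hact, hg1, hg2] at h1
    exact h1.symm
  obtain ⟨Q, hQ, hI⟩ := H919.Q2.alt_nat h2 hf hinv (m := 13) (by decide) (by rw [hn]) v hspan hsum hc (by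
    intro g hg i
    refine ⟨((φ ⟨g, hg⟩ : alternatingGroup (Fin 13)) : Equiv.Perm (Fin 13)) i, ?_⟩
    rw [← hact, MulEquiv.symm_apply_apply])
  exact H919.Q2.fixQ_of hf hQ hI

end nat

variable {F : Type u} [Field F] [Fintype F] {p : ℕ} {H P : Subgroup (GL (Fin 6 ⊕ Fin 6) F)}

theorem card12 : Fintype.card (Fin 6 ⊕ Fin 6) = 12 := rfl

theorem Cx.cast_ne (h : Cx p H P) {r : ℕ} (hr : r.Prime) (hpr : p ≠ r) : (r : F) ≠ 0 := by
  have := h.char
  intro h4
  rw [CharP.cast_eq_zero_iff F p] at h4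
  exact hpr ((Nat.prime_dvd_prime_iff_eq h.prime hr).1 h4)

theorem Cx.two_ne (h : Cx p H P) (h2 : p ≠ 2) : (2 : F) ≠ 0 := by
  have := h.cast_ne Nat.prime_two h2
  exact_mod_cast this

theorem Cx.two_eq (h : Cx 2 H P) : (2 : F) = 0 := by
  have := h.char
  exact_mod_cast CharP.cast_eq_zero F 2

/-- the scalars of `P` have exponent two -/
theorem Cx.scalar_mul (h : Cx p H P) (z : (scalars (Fin 6 ⊕ Fin 6) F).subgroupOf P) : z ^ 2 = 1 := by
  apply Subtype.ext
  apply Subtype.ext
  apply Units.ext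
  have h1 := h.scalar_pm z.1.2 (Subgroup.mem_subgroupOf.1 z.2)
  rw [Subgroup.coe_pow, Subgroup.coe_pow, Units.val_pow_eq_pow_val]
  rcases h1 with h1 | h1 <;> rw [h1]
  · simp
  · simp

theorem Cx.not_dvd (h : Cx p H P) {r : ℕ} (hr : r.Prime) (hr2 : r ≠ 2) :
    ¬ r ∣ Nat.card ((scalars (Fin 6 ⊕ Fin 6) F).subgroupOf P) := by
  intro hd
  have := Fact.mk hr
  obtain ⟨z, hz⟩ := exists_prime_orderOf_dvd_card' r hd
  have h1 := orderOf_dvd_of_pow_eq_one (h.scalar_mul z)
  rw [hz] at h1
  exact hr2 ((Nat.prime_dvd_prime_iff_eq hr Nat.prime_two).1 h1)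

/-- **`A_m`, `m ≥ 8`** -/
theorem row_alt (h : Cx p H P) {m : ℕ} (hm : 8 ≤ m) (h82 : ¬ (m = 8 ∧ p = 2))
    (e : Soc P ≃* alternatingGroup (Fin m)) : Concl P p := by
  have hpF := Fact.mk h.prime
  have := h.char
  have hC := h.core
  rcases H614.AMod.Main.alt_cases hC p e hm card12.le h82 with hN | hN | hN
  · have hd := hN.dim hC hm p
    rw [card12] at hd
    obtain ⟨φ, -, w, hw⟩ := hN
    have hF : Fintype.card F = p := H964.AltMod.card_eq hC (by rwa [Fintype.card_fin]) hw p
    by_cases hp2 : p = 2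
    · subst hp2
      rcases hd with ⟨-, hm13⟩ | ⟨-, hm14⟩
      · exact (h.hQ (fixQ_nat_two h.two_eq h.fixA (by omega) card12 hw)).elim
      · obtain rfl : m = 14 := by omega
        exact Or.inr (Or.inr (Or.inr (Or.inr (Or.inr (Or.inl ⟨⟨e⟩, hF⟩)))))
    · exact (not_fixA_nat (h.two_ne hp2) (by omega) hw h.fixA).elim
  · have := hN.n8
    rw [card12] at this
    omega
  · have := hN.1
    rw [card12] at this
    omega

/-- **`A₅`** -/
theorem row_a5 (h : Cx p H P) (e : Soc P ≃* alternatingGroup (Fin 5)) : False := by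
  have hpF := Fact.mk h.prime
  have := h.char
  by_cases hp5 : p = 5
  · subst hp5
    obtain ⟨f⟩ := Cfsg.Agent.S0253.result (F := ZMod 5) (ZMod.card 5)
    have := (H875.PslRows.sp_twelve 5 h.hH h.hc (e.trans f.symm)).2
    omega
  · have h1 := H937.T2.a5_dims p h.core e hp5
    rw [card12] at h1
    exact absurd h1 (by decide)

/-- **`A₆`** -/
theorem row_a6 (h : Cx p H P) (e : Soc P ≃* alternatingGroup (Fin 6)) : False := by
  have hpF := Fact.mk h.prime
  have := h.char
  by_cases hp3 : p = 3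
  · subst hp3
    obtain ⟨K, _, _, hK, _, ⟨f⟩⟩ := H937.T2.exists_nine e
    have := (H875.PslRows.sp_twelve 3 h.hH h.hc f).2
    omega
  · have h1 := H937.T2.a6_dims p h.core e (h.not_dvd Nat.prime_three (by norm_num)) hp3
    rw [card12] at h1
    exact absurd h1 (by decide)

end Cfsg.Agent.H922.S12
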