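import Cfsg.Agent.H922.S12.L2
import Cfsg.Agent.H936.List12c
import Cfsg.Agent.H931.K1Final
import Cfsg.Agent.H659.Sp4NotSD
import Cfsg.Agent.H936.U33All
import Cfsg.Agent.H36.U52.Main
import Cfsg.Agent.H906.T12Twelve
import Cfsg.Agent.H916.SpSixK
import Cfsg.Agent.H916.OmD
import Cfsg.Agent.H918.U43.Main
import Cfsg.Agent.H814.SzEightCore
import Cfsg.Agent.H114.O12.MEleven
import Cfsg.Agent.H921.M22.Final
import Cfsg.Agent.H4.LDM.Stage24
import Cfsg.Agent.H659.J1Not11
import Cfsg.Agent.H179.JoneL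
import Cfsg.Agent.H905.JDAll
import Cfsg.Agent.H95.JT.Core
import Cfsg.Agent.H878.Sz.MainP3
import Cfsg.Agent.H878.Sz.MainThree
import Cfsg.Agent.H922.S12.A7Double
import Cfsg.Agent.H114.O12.MTwo
import Cfsg.Agent.H937.S12Rows

/-!
# S5869: cross characteristic (helper922)

* **`cross`** (up to `PathC` : `2.A₇` in characteristic three).
-/

set_option autoImplicit false
set_option linter.unusedSectionVars false

namespace Cfsg.Agent.H922.S12

open Cfsg Cfsg.Geo Matrix Cfsg.Agent.H915.LD Cfsg.Agent.H912.Bd Cfsg.Agent.H912.Five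
open Cfsg.Agent.H936.List12 (AltC LieC MultD SporC CandD)

universe u v

variable {F : Type u} [Field F] [Fintype F] {p : ℕ} {H P : Subgroup (GL (Fin 6 ⊕ Fin 6) F)}

theorem row_u33 (h : Cx p H P) (hp3 : p ≠ 3) (hT : IsU 3 3 (Soc P)) : False := by
  obtain ⟨K, i1, i2, hK, he⟩ := hT
  have := Fact.mk h.prime
  have := h.char
  rcases H936.U33All.u33_all h.core p hp3 card12.le (K := K) (by rw [hK]; norm_num) he with ⟨h1, -⟩ | ⟨-, h1, -⟩
  · rw [card12] at h1
    omega
  · rw [card12] at h1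
    omega

theorem row_u34 (h : Cx p H P) (hp2 : p ≠ 2) (hT : IsU 3 4 (Soc P)) : False := by
  have := Fact.mk h.prime
  have := h.char
  exact H931.K1Final.k1 p hp2 h.hH h.hc hT

theorem row_u42 (h : Cx p H P) (hp2 : p ≠ 2) (hp3 : p ≠ 3) (hT : IsU 4 2 (Soc P)) : False := by
  obtain ⟨K, i1, i2, hK, ⟨e⟩⟩ := hT
  have := Fact.mk h.prime
  have := h.char
  have h1 := H659.Sp4.sd_six' h.core p hp2 hp3 card12.le (k := K) (by rw [hK]; norm_num) e h.sd
  rw [card12] at h1
  omega

theorem row_u52 (h : Cx p H P) (hp2 : p ≠ 2) (hT : IsU 5 2 (Soc P)) : False := by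
  obtain ⟨K, i1, i2, hK, ⟨e⟩⟩ := hT
  have := Fact.mk h.prime
  have := h.char
  rcases H36.U52.t6 h.coreR p hp2 le_rfl (F₄ := K) (by rw [hK]; norm_num)
    ((H912.Rx.socEquiv e12).symm.trans e) with ⟨h1, -⟩ | ⟨h1, -⟩
  · omega
  · omega

theorem row_u43 (h : Cx p H P) (hp3 : p ≠ 3) (hT : IsU 4 3 (Soc P)) : False := by
  obtain ⟨K, i1, i2, hK, ⟨e⟩⟩ := hT
  have := Fact.mk h.prime
  have := h.char
  have h1 := (H918.U43.u43_core h.core p hp3 (K := K) (by rw [hK]; norm_num) e card12.le).1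
  rw [card12] at h1
  omega

theorem row_l34 (h : Cx p H P) (hp2 : p ≠ 2) (hT : IsL 3 4 (Soc P)) : False := by
  obtain ⟨K, i1, i2, hK, ⟨e⟩⟩ := hT
  have := Fact.mk h.prime
  have := h.char
  exact h.not_dvd Nat.prime_three (by norm_num) (H906.T12.l34_twelve p h.core hp2 hK card12 e).2.1

theorem zero_or_one {K : Type v} [Field K] [Fintype K] (hK : Fintype.card K = 2) (x : K) : x = 0 ∨ x = 1 := by
  have h1 := FiniteField.pow_card x
  rw [hK] at h1
  have h2 : x * (x - 1) = 0 := by linear_combination h1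
  rcases mul_eq_zero.1 h2 with h3 | h3
  · exact Or.inl h3
  · exact Or.inr (sub_eq_zero.1 h3)

theorem row_s62 (h : Cx p H P) (hp : p ≠ 2) (hT : IsS 3 2 (Soc P)) : False := by
  obtain ⟨K, i1, i2, hK, ⟨e⟩⟩ := hT
  have h1 := H916.SpSix.spSix_dim (zero_or_one hK) h.core e (h.two_ne hp) (by rw [card12]; norm_num)
  rw [card12] at h1
  omega

theorem row_o82 (h : Cx p H P) (hp : p ≠ 2) (hT : IsOP 4 2 (Soc P)) : False := by
  obtain ⟨K, i1, i2, hK, ⟨e⟩⟩ := hT
  have h1 := H916.Om.omega_dim (zero_or_one hK) h.core e (h.two_ne hp) (by rw [card12]; norm_num)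
  rw [card12] at h1
  omega

theorem row_sz (h : Cx p H P) (hp2 : p ≠ 2) (hT : IsSz8 (Soc P)) : False := by
  have h1 := (H814.Sz8.core_sz8 h.core (h.two_ne hp2) card12.le hT).1
  rw [card12] at h1
  omega

theorem row_suz (h : Cx p H P) (hT : Spor.IsoSuz (Soc P)) : Concl P p := by
  have hpf := Fact.mk h.prime
  have := h.char
  obtain ⟨e⟩ := hT
  by_cases hp3 : p = 3
  · subst hp3
    have h1 := (H878.Sz.core_Suz_three h.core e card12.le).2.2.2.1
    exact Or.inr (Or.inr (Or.inr (Or.inr (Or.inr (Or.inr (Or.inl ⟨⟨e⟩, h.core.card_eq 3 h1⟩))))))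
  · exact (H878.Sz.core_Suz_not_sd h.core e card12.le p hp3 h.sd).elim

theorem row_j1 (h : Cx p H P) (hT : Spor.IsoJ1 (Soc P)) : False := by
  have hpf := Fact.mk h.prime
  have := h.char
  by_cases hp : p = 11
  · subst hp
    have h1 := H179.JOne.j1_le12_iso h.core hT (by exact_mod_cast CharP.cast_eq_zero F 11) card12.le
    rw [card12] at h1
    omega
  · exact H659.J1.not_core h.core hT p hp card12.le

/-- **`A₇`** -/
theorem row_a7 (O : PathC.{u}) (h : Cx p H P) (e : Soc P ≃* alternatingGroup (Fin 7)) : False := by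
  have hpf := Fact.mk h.prime
  have := h.char
  by_cases h2 : (2 : F) = 0
  · refine H906.A7T.a7_sd_simple h.core h.sd card12 e ?_
    rw [Subgroup.eq_bot_iff_forall]
    intro z hz
    apply Subtype.ext
    apply Units.ext
    rcases h.scalar_pm z.2 (Subgroup.mem_subgroupOf.1 hz) with h1 | h1
    · exact h1
    · rw [h1, Subgroup.coe_one, Units.val_one]
      ext i j
      rw [Matrix.neg_apply, neg_eq_iff_add_eq_zero, ← two_mul, h2, zero_mul]
  · refine a7_double O h.core e card12 (fun g hg hs => ?_) h.sd h2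
    apply Units.ext
    rw [Units.val_mul]
    rcases h.scalar_pm hg hs with h1 | h1
    · rw [h1, Matrix.one_mul, Units.val_one]
    · rw [h1, neg_mul_neg, Matrix.one_mul, Units.val_one]

/-- **Sporadic groups.** -/
theorem cross_spor (O : PathC.{u}) (h : Cx p H P) (hc : SporC (Soc P)) : Concl P p := by
  have hpf := Fact.mk h.prime
  have := h.char
  rcases hc with hT | hT | hT | hT | hT | hT | hT | hT | hT
  · exact (H114.O12.MEl.m11_twelve h.core p hT card12).elim
  · exact (H937.S12Rows.row_m12 h hT).elim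
  · by_cases hp2 : p = 2
    · subst hp2
      obtain ⟨e⟩ := hT
      have h1 := (H921.M22.six_of_sd e h.core card12.le h.sd).1
      rw [card12] at h1
      omega
    · exact (H114.O12.m22_twelve h.core p hp2 hT card12).elim
  · obtain ⟨e⟩ := hT
    have h1 := (H4.LDM.Stage.m23_low h.core e p card12.le).2.1
    rw [card12] at h1
    omega
  · obtain ⟨e⟩ := hT
    have h1 := (H4.LDM.Stage.m24_low h.core e p card12.le).2.1
    rw [card12] at h1
    omega
  · exact (row_j1 h hT).elim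
  · exact (H905.JD.J2_twelve_all h.core hT card12).elim
  · have h1 := (H95.JT.j3 p h.core hT card12.le).2.1
    rw [card12] at h1
    omega
  · exact row_suz h hT

/-- **Alternating groups.** -/
theorem cross_alt (O : PathC.{u}) (h : Cx p H P) (hc : AltC p 12 (Soc P)) (hL : ¬ IsLieTypeChar p (Soc P)) :
    Concl P p := by
  obtain ⟨m, h5, h14, -, -, -, ⟨e⟩⟩ := hc
  rcases (show m = 5 ∨ m = 6 ∨ m = 7 ∨ 8 ≤ m by omega) with rfl | rfl | rfl | h8
  · exact (row_a5 h e).elim
  · exact (row_a6 h e).elim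
  · exact (row_a7 O h e).elim
  · refine row_alt h h8 ?_ e
    rintro ⟨rfl, rfl⟩
    apply hL
    obtain ⟨e'⟩ := S0256.result (F := ZMod 2) (by simp)
    exact H936.List12.lie_of_isL (m := 4) (q := 2) (by norm_num) dvd_rfl (by norm_num) (by norm_num)
      ⟨ZMod 2, inferInstance, inferInstance, by simp, ⟨e.trans e'.symm⟩⟩

theorem cross_l2 (h : Cx p H P) {q : ℕ} (hq : q ∈ ({7, 8, 11, 13, 17, 19, 23, 25} : Finset ℕ)) (hpq : ¬ p ∣ q)
    (hT : IsL 2 q (Soc P)) : Concl P p := by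
  obtain ⟨K, iF, iT, hK, ⟨e⟩⟩ := hT
  have hq5 : 5 ≤ q ∧ q ≠ 9 := by
    simp only [Finset.mem_insert, Finset.mem_singleton] at hq
    omega
  exact row_l2 h (by omega) (by omega) (by rwa [hK]) e

/-- **Cross characteristic.** -/
theorem cross (O : PathC.{u}) (h : Cx p H P) (hk : IsKnownSimple' (Soc P)) (hL : ¬ IsLieTypeChar p (Soc P)) :
    Concl P p := by
  have hpf := Fact.mk h.prime
  have := h.char
  have hc : CandD p 12 (Soc P) := H936.List12.list card12.le h.core hk hL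
  rcases hc with hc | hc | hc | ⟨hp2, -, hT⟩ | hc
  · exact cross_alt O h hc hL
  · rcases hc with ⟨q, hq, hpq, -, hT⟩ | ⟨hp, -, hT⟩ | ⟨hp, -, hT⟩ | ⟨hp, -, hT⟩ | ⟨hp2, hp3, -, hT⟩ | ⟨hp, -, hT⟩ |
      ⟨hp, -, hT⟩ | ⟨hp, -, hT⟩ | ⟨hp, -, hT⟩
    · exact cross_l2 h hq hpq hT
    · exact (H937.S12Rows.row_l33 h hp hT).elim
    · exact (row_u33 h hp hT).elim
    · exact (row_u34 h hp hT).elim
    · exact (row_u42 h hp2 hp3 hT).elim
    · exact (row_u52 h hp hT).elim
    · exact row_s45 h hp hT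
    · exact (row_s62 h hp hT).elim
    · exact (row_o82 h hp hT).elim
  · rcases hc with ⟨hp, -, hT | hT | ⟨hp3, hT⟩ | hT | hT | hT⟩ | ⟨hp, -, hT⟩
    · refine cross_l2 h (q := 7) (by decide) ?_ hT
      intro h7
      exact hL (H936.List12.lie_of_isL (m := 2) (q := 7) h.prime h7 le_rfl (fun _ => by norm_num) hT)
    · exact (row_l34 h hp hT).elim
    · exact (row_u42 h hp hp3 hT).elim
    · exact (row_s62 h hp hT).elim
    · exact (row_o82 h hp hT).elim
    · exact H937.S12Rows.row_g2 h hp hT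
    · exact (row_u43 h hp hT).elim
  · exact (row_sz h hp2 hT).elim
  · exact cross_spor O h hc

end Cfsg.Agent.H922.S12
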