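import Cfsg.Agent.H922.S12.Alt
import Cfsg.Agent.H464.L2Num
import Cfsg.Agent.H464.L2Two
import Cfsg.Agent.H830.Sl2Type
import Cfsg.Agent.H912.FiveList
import Cfsg.Agent.H434.LD.K2Main
import Cfsg.Agent.H434.LD.PSp45
import Cfsg.Agent.H1.K3.Kill

/-!
# S5869: `L₂(q)` and `PSp₄(5)`, cross characteristic (helper922)
-/

set_option autoImplicit false
set_option linter.unusedSectionVars false

namespace Cfsg.Agent.H922.S12

open Cfsg Cfsg.Geo Matrix Cfsg.Agent.H915.LD Cfsg.Agent.H464.Sl2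

universe u

variable {F : Type u} [Field F] [Fintype F] {p : ℕ} {H P : Subgroup (GL (Fin 6 ⊕ Fin 6) F)}

theorem mod20 (h2 : p % 2 = 1) (h : p % 5 = 1 ∨ p % 5 = 4) :
    p % 20 = 9 ∨ p % 20 = 11 ∨ p % 20 = 1 ∨ p % 20 = 19 := by omega

theorem mod28 (h2 : p % 2 = 1) (h : p % 7 = 1 ∨ p % 7 = 6) :
    p % 28 = 13 ∨ p % 28 = 15 ∨ p % 28 = 1 ∨ p % 28 = 27 := by omega

theorem odd_of (hp : p.Prime) (h2 : p ≠ 2) : p % 2 = 1 := by
  rcases hp.eq_two_or_odd with h | h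
  · exact absurd h h2
  · exact h

/-- **`L₂(11)`** -/
theorem row_eleven (h : Cx p H P) {K : Type} [Field K] [Fintype K] (hK : Fintype.card K = 11)
    (hp11 : p ≠ 11) (e : Soc P ≃* ProjectiveSpecialLinearGroup (Fin 2) K) : Concl P p := by
  have hpF := Fact.mk h.prime
  have := h.char
  have hC := h.core
  have he : Nonempty (Soc P ≃* ProjectiveSpecialLinearGroup (Fin 2) (ZMod 11)) :=
    H912.Five.psl_zmod (by norm_num) ⟨K, inferInstance, inferInstance, hK, ⟨e⟩⟩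
  obtain ⟨hp5, -, hF⟩ := l2_11_12 p hC hK hp11 e card12
  have hp2 : p ≠ 2 := by
    rintro rfl
    exact h.hQ (l2_fixQ_two hC (by rw [hK]; norm_num) (by rw [hK]; norm_num) (by rw [hK]; decide) e
      (Or.inr (by rw [hK, card12])))
  refine Or.inl ⟨he, ?_⟩
  rcases hF with ⟨hF, h1⟩ | ⟨hF, h1⟩
  · exact Or.inl ⟨hF, hp11, mod20 (odd_of h.prime hp2) h1⟩
  · exact Or.inr ⟨hF, hp2, h1⟩

/-- **`L₂(13)`** -/
theorem row_thirteen (h : Cx p H P) {K : Type} [Field K] [Fintype K] (hK : Fintype.card K = 13)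
    (hp13 : p ≠ 13) (e : Soc P ≃* ProjectiveSpecialLinearGroup (Fin 2) K) : Concl P p := by
  have hpF := Fact.mk h.prime
  have := h.char
  have hC := h.core
  have he : Nonempty (Soc P ≃* ProjectiveSpecialLinearGroup (Fin 2) (ZMod 13)) :=
    H912.Five.psl_zmod (by norm_num) ⟨K, inferInstance, inferInstance, hK, ⟨e⟩⟩
  obtain ⟨hbot, hF⟩ := l2_13_12 p hC hK hp13 e card12
  have hp2 : p ≠ 2 := by
    rintro rfl
    exact h.hQ (l2_fixQ_two hC (by rw [hK]; norm_num) (by rw [hK]; norm_num) (by rw [hK]; decide) e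
      (Or.inl (by rw [hK, card12])))
  have hpK : ¬ p ∣ Fintype.card K := by
    rw [hK]
    intro hd
    exact hp13 ((Nat.prime_dvd_prime_iff_eq h.prime (by norm_num)).1 hd)
  have hne : (scalars (Fin 6 ⊕ Fin 6) F).subgroupOf P ≠ ⊥ := fun hb =>
    ((H830.Sl2Form.l2_type p hp2 hC (by rw [hK]; norm_num) (by rw [hK]; norm_num) hpK e).1 hb).1 h.fixA
  have hp7 := (hbot hne).2
  refine Or.inr (Or.inl ⟨he, ?_⟩)
  rcases hF with ⟨hF, h1⟩ | ⟨hF, h1⟩
  · exact Or.inl ⟨hF, hp13, mod28 (odd_of h.prime hp2) (by tauto)⟩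
  · exact Or.inr ⟨hF, hp2, by tauto⟩

/-- **`L₂(25)`** -/
theorem row_twentyfive (h : Cx p H P) {K : Type} [Field K] [Fintype K] (hK : Fintype.card K = 25)
    (hp5 : p ≠ 5) (e : Soc P ≃* ProjectiveSpecialLinearGroup (Fin 2) K) : Concl P p := by
  have hpF := Fact.mk h.prime
  have := h.char
  have hC := h.core
  obtain ⟨-, -, hF⟩ := l2_25_12 p hC hK hp5 e card12
  refine Or.inr (Or.inr (Or.inl ⟨⟨K, inferInstance, inferInstance, hK, ⟨e⟩⟩, hF, ?_, ?_⟩))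
  · rintro rfl
    exact H1.K3.k3 (by rw [Nat.card_eq_fintype_card, hF]) h.hH h.hc hK e
  · have h5 : p % 5 ≠ 0 := fun h0 =>
      hp5 ((Nat.prime_dvd_prime_iff_eq (by norm_num) h.prime).1 (Nat.dvd_of_mod_eq_zero h0)).symm
    by_contra hcon
    exact H434.K2.not_maximal p h.hH h.hc hK e (by omega)

/-- **`L₂(q)`, `p ∤ q`** -/
theorem row_l2 (h : Cx p H P) {K : Type} [Field K] [Fintype K] (h5 : 5 ≤ Fintype.card K)
    (h9 : Fintype.card K ≠ 9) (hpK : ¬ p ∣ Fintype.card K) (e : Soc P ≃* ProjectiveSpecialLinearGroup (Fin 2) K) :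
    Concl P p := by
  have hpF := Fact.mk h.prime
  have := h.char
  have hC := h.core
  have hd := l2_degrees p hC h5 h9 hpK e card12.le
  simp only [card12] at hd
  rcases hd with ⟨hK, hd⟩ | ⟨hK, hd⟩ | ⟨hK, hd⟩ | ⟨hK, hd⟩ | ⟨hK, hd⟩ | ⟨hK, hd⟩ | ⟨hK, hd⟩ | ⟨hK, hd⟩ | ⟨hK, hd⟩
  · exact absurd hd (by decide)
  · exact absurd hd (by decide)
  · exact absurd hd (by decide)
  · refine row_eleven h hK ?_ e
    rintro rfl
    exact hpK (by rw [hK])
  · refine row_thirteen h hK ?_ e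
    rintro rfl
    exact hpK (by rw [hK])
  · exact absurd hd (by decide)
  · exact absurd hd (by decide)
  · have hp23 : p ≠ 23 := by
      rintro rfl
      exact hpK (by rw [hK])
    exact absurd h.sd (l2_23_12 p hC hK hp23 e card12).2.1
  · refine row_twentyfive h hK ?_ e
    rintro rfl
    exact hpK (by rw [hK]; norm_num)

/-- **`PSp₄(5)`** -/
theorem row_s45 (h : Cx p H P) (hp5 : p ≠ 5) (hT : H912.Bd.IsS 2 5 (Soc P)) : Concl P p := by
  have hpF := Fact.mk h.prime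
  have := h.char
  refine Or.inr (Or.inr (Or.inr (Or.inl ⟨hT, ?_⟩)))
  rcases H434.PSp45.card_cases p h.core hT hp5 card12 with ⟨h1, h2, -⟩ | ⟨h1, h2, -⟩
  · exact Or.inl ⟨h2, h1⟩
  · exact Or.inr ⟨h2, h1⟩

end Cfsg.Agent.H922.S12
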